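import Cfsg.Agent.Chev.EigenTorus
import Cfsg.Prelude.Def_ChevB2

/-!
Eigenvectors of Weyl elements of type B2.
-/

set_option autoImplicit false
set_option maxRecDepth 20000

namespace Cfsg.Agent.Chev

open Cfsg.Lie

/-- The certificates. -/
def b2EigenCerts : List Eigen.Cert := [
  ⟨1, [], 2, 1,
    [[[1,0]],[[0,1]]],
    [[[2],[1]],[[2],[2]]], 2⟩,
  ⟨2, [0, 1, 0, 1], 2, 1,
    [[[1,0]],[[0,1]]],
    [[[2],[1]],[[2],[2]]], 2⟩,
  ⟨4, [0, 1], 1, 2,
    [[[1,2],[-1,0]]],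
    [[[0,1],[0,0]]], 2⟩]

/-- A multiple of the inverse Cartan matrix. -/
def b2CartanAdj : List (List ℤ) := [[2,1],[2,2]]

theorem b2EigenCerts_chk :
    ∀ C ∈ b2EigenCerts, C.chk chevB2 Eigen.cycTable [2, 4] = true := by
  decide +kernel

theorem b2EigenCerts_cover : ∀ e ∈ ([2, 4] : List ℕ), ∀ d : Fin (e + 1), (d : ℕ) ∣ e →
    ∃ C ∈ b2EigenCerts, C.d = (d : ℕ) := by
  decide +kernel

theorem b2CartanAdj_spec : ∀ i l : Fin chevB2.rank, ∑ j : Fin chevB2.rank,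
    (b2CartanAdj.getD i []).getD j 0 * chevB2.cartan l (chevB2.simple j) =
      if i = l then ((2 : ℕ) : ℤ) else 0 := by
  decide +kernel

end Cfsg.Agent.Chev
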