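import Cfsg.Agent.Chev.EigenTorus
import Cfsg.Prelude.Def_ChevD4

/-!
Eigenvectors of Weyl elements of type D4.
-/

set_option autoImplicit false
set_option maxRecDepth 20000

namespace Cfsg.Agent.Chev

open Cfsg.Lie

/-- The certificates. -/
def d4EigenCerts : List Eigen.Cert := [
  ⟨1, [], 4, 1,
    [[[1,0,0,0]],[[0,1,0,0]],[[0,0,1,0]],[[0,0,0,1]]],
    [[[2],[2],[1],[1]],[[2],[4],[2],[2]],[[1],[2],[2],[1]],[[1],[2],[1],[2]]], 2⟩,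
  ⟨2, [0, 1, 2, 3, 0, 1, 2, 3, 0, 1, 2, 3], 4, 1,
    [[[1,0,0,0]],[[0,1,0,0]],[[0,0,1,0]],[[0,0,0,1]]],
    [[[2],[2],[1],[1]],[[2],[4],[2],[2]],[[1],[2],[2],[1]],[[1],[2],[1],[2]]], 2⟩,
  ⟨3, [0, 1, 2, 3, 0, 1, 2, 3], 1, 2,
    [[[0,1,1,1],[-1,-1,0,0]]],
    [[[0,1],[0,0],[0,0],[0,0]]], 1⟩,
  ⟨4, [3, 1, 1, 0, 2, 0, 3, 0, 2, 1, 2, 3, 3, 3, 1, 3, 2, 3, 3, 3], 2, 2,
    [[[1,1,1,0],[0,1,0,0]],[[0,1,0,1],[-1,-1,0,0]]],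
    [[[-1,1],[-1,-1],[0,0],[0,0]],[[0,2],[-1,1],[0,0],[0,0]]], 2⟩,
  ⟨6, [0, 1, 2, 3], 1, 2,
    [[[1,2,1,1],[-1,-1,0,0]]],
    [[[-1,1],[0,0],[0,0],[0,0]]], 1⟩]

/-- A multiple of the inverse Cartan matrix. -/
def d4CartanAdj : List (List ℤ) := [[2,2,1,1],[2,4,2,2],[1,2,2,1],[1,2,1,2]]

theorem d4EigenCerts_chk :
    ∀ C ∈ d4EigenCerts, C.chk chevD4 Eigen.cycTable [2, 4, 4, 6] = true := by
  decide +kernel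

theorem d4EigenCerts_cover : ∀ e ∈ ([2, 4, 4, 6] : List ℕ), ∀ d : Fin (e + 1), (d : ℕ) ∣ e →
    ∃ C ∈ d4EigenCerts, C.d = (d : ℕ) := by
  decide +kernel

theorem d4CartanAdj_spec : ∀ i l : Fin chevD4.rank, ∑ j : Fin chevD4.rank,
    (d4CartanAdj.getD i []).getD j 0 * chevD4.cartan l (chevD4.simple j) =
      if i = l then ((2 : ℕ) : ℤ) else 0 := by
  decide +kernel

end Cfsg.Agent.Chev
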