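import Cfsg.Agent.Chev.EigenTorus
import Cfsg.Prelude.Def_ChevE6

/-!
Eigenvectors of Weyl elements of type E6.
-/

set_option autoImplicit false
set_option maxRecDepth 20000

namespace Cfsg.Agent.Chev

open Cfsg.Lie

/-- The certificates. -/
def e6EigenCerts : List Eigen.Cert := [
  ⟨1, [], 6, 1,
    [[[1,0,0,0,0,0]],[[0,1,0,0,0,0]],[[0,0,1,0,0,0]],[[0,0,0,1,0,0]],[[0,0,0,0,1,0]],[[0,0,0,0,0,1]]],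
    [[[4],[3],[5],[6],[4],[2]],[[3],[6],[6],[9],[6],[3]],[[5],[6],[10],[12],[8],[4]],[[6],[9],[12],
    [18],[12],[6]],[[4],[6],[8],[12],[10],[5]],[[2],[3],[4],[6],[5],[4]]], 3⟩,
  ⟨2, [0, 1, 2, 3, 4, 5, 0, 1, 2, 3, 4, 5, 0, 1, 2, 3, 4, 5, 0, 1, 2, 3, 4, 5, 0, 1, 2, 3, 4, 5, 0, 1, 2, 3, 4, 5], 4, 1,
    [[[0,1,0,0,0,0]],[[1,0,1,1,0,0]],[[-1,0,0,0,1,0]],[[0,0,-1,0,0,1]]],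
    [[[-1],[2],[1],[3],[0],[0]],[[-2],[3],[2],[6],[0],[0]],[[-2],[2],[1],[4],[0],[0]],[[-1],[1],[0],
    [2],[0],[0]]], 1⟩,
  ⟨3, [0, 1, 2, 3, 4, 5, 0, 1, 2, 3, 4, 5, 0, 1, 2, 3, 4, 5, 0, 1, 2, 3, 4, 5], 3, 2,
    [[[0,0,0,1,0,0],[0,0,-1,0,0,0]],[[0,0,1,0,1,0],[0,-1,1,0,0,0]],[[0,1,0,0,0,1],[-1,1,0,0,0,0]]],
    [[[6,6],[3,6],[0,6],[0,0],[0,0],[0,0]],[[4,5],[1,5],[-2,2],[0,0],[0,0],[0,0]],[[2,4],[-1,1],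
    [-1,1],[0,0],[0,0],[0,0]]], 3⟩,
  ⟨4, [0, 1, 2, 3, 4, 5, 0, 1, 2, 3, 4, 5, 0, 1, 2, 3, 4, 5], 2, 2,
    [[[0,0,1,1,1,0],[-1,0,-1,-1,0,0]],[[1,1,0,1,0,1],[1,-1,1,1,0,0]]],
    [[[-4,2],[1,3],[0,0],[0,0],[0,0],[0,0]],[[-2,0],[0,2],[0,0],[0,0],[0,0],[0,0]]], 2⟩,
  ⟨5, [3, 3, 1, 5, 2, 5, 2, 5, 3, 2, 4, 0, 4, 4, 1, 5, 1, 3, 0, 0, 0, 0, 1, 1], 1, 4,
    [[[0,0,0,1,1,1],[0,-1,0,0,0,0],[0,-1,-1,-1,0,0],[-1,-1,-1,-1,0,0]]],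
    [[[-1,-2,-3,1],[0,0,0,0],[0,0,0,0],[0,0,0,0],[0,0,0,0],[0,0,0,0]]], 5⟩,
  ⟨6, [0, 1, 2, 3, 4, 5, 0, 1, 2, 3, 4, 5], 2, 2,
    [[[0,1,1,1,1,0],[0,-1,0,0,0,0]],[[1,0,0,1,0,1],[-1,1,-1,-1,0,0]]],
    [[[-1,3],[-2,1],[0,0],[0,0],[0,0],[0,0]],[[-1,2],[-1,0],[0,0],[0,0],[0,0],[0,0]]], 1⟩,
  ⟨8, [1, 4, 1, 0, 2, 0, 0, 4, 1, 4, 0, 5, 1, 4, 0, 3, 4, 2, 3, 3, 4, 3, 4, 5, 1, 5, 0], 1, 4,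
    [[[1,1,1,2,2,2],[1,1,1,2,0,0],[1,1,1,2,2,0],[1,1,1,0,0,0]]],
    [[[1,-1,0,0],[0,0,0,0],[0,0,0,0],[0,0,0,0],[0,0,0,0],[0,0,0,0]]], 2⟩,
  ⟨9, [3, 0, 5, 0, 2, 4, 4, 2, 5, 4, 4, 3, 3, 2, 1, 4, 5, 0, 5, 3, 0, 5, 1, 4, 4, 3, 0, 4, 2, 4], 1, 6,
    [[[0,0,1,1,1,1],[0,1,1,1,0,0],[0,0,-1,-1,-1,0],[0,-1,0,-1,0,0],[-1,0,0,0,0,0],[0,0,0,0,-1,0]]],
    [[[2,2,2,1,1,-2],[0,0,0,0,0,0],[0,0,0,0,0,0],[0,0,0,0,0,0],[0,0,0,0,0,0],[0,0,0,0,0,0]]], 3⟩,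
  ⟨12, [0, 1, 2, 3, 4, 5], 1, 4,
    [[[1,1,1,2,1,1],[0,0,1,1,1,0],[-1,0,-1,-1,0,0],[0,-1,-1,-1,-1,0]]],
    [[[-1,-1,1,1],[0,0,0,0],[0,0,0,0],[0,0,0,0],[0,0,0,0],[0,0,0,0]]], 1⟩]

/-- A multiple of the inverse Cartan matrix. -/
def e6CartanAdj : List (List ℤ) := [[4,3,5,6,4,2],[3,6,6,9,6,3],[5,6,10,12,8,4],[6,9,12,18,12,6],[4,6,8,12,10,5],[2,3,4,6,5,4]]

theorem e6EigenCerts_chk :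
    ∀ C ∈ e6EigenCerts, C.chk chevE6 Eigen.cycTable [2, 5, 6, 8, 9, 12] = true := by
  decide +kernel

theorem e6EigenCerts_cover : ∀ e ∈ ([2, 5, 6, 8, 9, 12] : List ℕ), ∀ d : Fin (e + 1), (d : ℕ) ∣ e →
    ∃ C ∈ e6EigenCerts, C.d = (d : ℕ) := by
  decide +kernel

theorem e6CartanAdj_spec : ∀ i l : Fin chevE6.rank, ∑ j : Fin chevE6.rank,
    (e6CartanAdj.getD i []).getD j 0 * chevE6.cartan l (chevE6.simple j) =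
      if i = l then ((3 : ℕ) : ℤ) else 0 := by
  decide +kernel

end Cfsg.Agent.Chev
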