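import Cfsg.Agent.Chev.EigenTorus
import Cfsg.Prelude.Def_ChevE7

/-!
Eigenvectors of Weyl elements of type E7.
-/

set_option autoImplicit false
set_option maxRecDepth 20000

namespace Cfsg.Agent.Chev

open Cfsg.Lie

/-- The certificates. -/
def e7EigenCerts : List Eigen.Cert := [
  ⟨1, [], 7, 1,
    [[[1,0,0,0,0,0,0]],[[0,1,0,0,0,0,0]],[[0,0,1,0,0,0,0]],[[0,0,0,1,0,0,0]],[[0,0,0,0,1,0,0]],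
    [[0,0,0,0,0,1,0]],[[0,0,0,0,0,0,1]]],
    [[[4],[4],[6],[8],[6],[4],[2]],[[4],[7],[8],[12],[9],[6],[3]],[[6],[8],[12],[16],[12],[8],[4]],
    [[8],[12],[16],[24],[18],[12],[6]],[[6],[9],[12],[18],[15],[10],[5]],[[4],[6],[8],[12],[10],
    [8],[4]],[[2],[3],[4],[6],[5],[4],[3]]], 2⟩,
  ⟨2, [0, 1, 2, 3, 4, 5, 6, 0, 1, 2, 3, 4, 5, 6, 0, 1, 2, 3, 4, 5, 6, 0, 1, 2, 3, 4, 5, 6, 0, 1, 2, 3, 4, 5, 6, 0, 1, 2, 3, 4, 5, 6, 0, 1, 2, 3, 4, 5, 6, 0, 1, 2, 3, 4, 5, 6, 0, 1, 2, 3, 4, 5, 6], 7, 1,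
    [[[1,0,0,0,0,0,0]],[[0,1,0,0,0,0,0]],[[0,0,1,0,0,0,0]],[[0,0,0,1,0,0,0]],[[0,0,0,0,1,0,0]],
    [[0,0,0,0,0,1,0]],[[0,0,0,0,0,0,1]]],
    [[[4],[4],[6],[8],[6],[4],[2]],[[4],[7],[8],[12],[9],[6],[3]],[[6],[8],[12],[16],[12],[8],[4]],
    [[8],[12],[16],[24],[18],[12],[6]],[[6],[9],[12],[18],[15],[10],[5]],[[4],[6],[8],[12],[10],
    [8],[4]],[[2],[3],[4],[6],[5],[4],[3]]], 2⟩,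
  ⟨3, [0, 1, 2, 3, 4, 5, 6, 0, 1, 2, 3, 4, 5, 6, 0, 1, 2, 3, 4, 5, 6, 0, 1, 2, 3, 4, 5, 6, 0, 1, 2, 3, 4, 5, 6, 0, 1, 2, 3, 4, 5, 6], 3, 2,
    [[[0,0,1,1,1,0,0],[-1,0,0,0,0,0,0]],[[0,1,-1,0,0,1,0],[1,0,-1,0,0,0,0]],[[1,-1,1,0,0,0,1],
    [0,-1,1,-1,0,0,0]]],
    [[[-1,0],[1,4],[2,1],[0,0],[0,0],[0,0],[0,0]],[[-1,-1],[0,3],[2,1],[0,0],[0,0],[0,0],[0,0]],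
    [[-1,-1],[0,2],[1,0],[0,0],[0,0],[0,0],[0,0]]], 1⟩,
  ⟨4, [2, 2, 5, 5, 6, 4, 1, 0, 0, 2, 4, 3, 5, 0, 5, 4, 1, 0, 3, 6, 6, 3, 4, 4, 5, 5, 5, 5, 3, 6, 6], 2, 2,
    [[[0,1,1,2,0,0,0],[0,1,-1,0,0,0,0]],[[0,0,0,0,1,0,0],[0,-1,0,0,0,0,0]]],
    [[[-1,-1],[0,0],[0,0],[0,0],[0,0],[0,0],[0,0]],[[-1,-1],[0,1],[0,0],[0,0],[0,0],[0,0],[0,0]]], 2⟩,
  ⟨5, [6, 2, 0, 3, 0, 1, 2, 4, 4, 2, 1, 2, 2, 5, 4, 0, 2, 5, 2, 2, 1, 6, 0, 5, 1], 1, 4,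
    [[[0,0,0,0,1,1,1],[0,0,-1,-1,0,0,0],[0,0,0,-1,0,0,0],[-1,0,-1,-1,0,0,0]]],
    [[[-3,-1,-4,-2],[0,0,0,0],[0,0,0,0],[0,0,0,0],[0,0,0,0],[0,0,0,0],[0,0,0,0]]], 5⟩,
  ⟨6, [0, 1, 2, 3, 4, 5, 6, 0, 1, 2, 3, 4, 5, 6, 0, 1, 2, 3, 4, 5, 6], 3, 2,
    [[[1,0,1,1,1,0,0],[-1,0,0,0,0,0,0]],[[-1,1,0,0,0,1,0],[1,0,-1,0,0,0,0]],[[1,0,0,1,0,0,1],
    [0,-1,1,-1,0,0,0]]],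
    [[[-1,0],[-3,4],[1,1],[0,0],[0,0],[0,0],[0,0]],[[0,-1],[-3,3],[1,1],[0,0],[0,0],[0,0],[0,0]],
    [[0,-1],[-2,2],[1,0],[0,0],[0,0],[0,0],[0,0]]], 1⟩,
  ⟨7, [0, 3, 3, 5, 6, 2, 0, 3, 3, 2, 4, 3, 2, 3], 1, 6,
    [[[0,0,0,0,0,0,1],[0,0,0,0,0,-1,0],[0,0,0,0,-1,-1,0],[-1,0,-1,-1,-1,-1,0],[0,0,0,-1,-1,-1,0],
    [0,0,-1,-1,-1,-1,0]]],
    [[[4,1,5,2,-1,3],[0,0,0,0,0,0],[0,0,0,0,0,0],[0,0,0,0,0,0],[0,0,0,0,0,0],[0,0,0,0,0,0],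
    [0,0,0,0,0,0]]], 7⟩,
  ⟨8, [3, 3, 5, 6, 5, 1, 2, 3, 6, 6, 0, 2, 6, 0, 5, 6, 3, 4, 2, 5, 6, 3, 2, 1, 1, 3], 1, 4,
    [[[1,1,2,2,2,2,2],[-1,-1,0,0,0,0,0],[-1,-1,-2,-2,-2,0,0],[-1,-1,-2,-2,-2,-2,0]]],
    [[[0,0,0,1],[0,0,0,0],[0,0,0,0],[0,0,0,0],[0,0,0,0],[0,0,0,0],[0,0,0,0]]], 2⟩,
  ⟨9, [0, 1, 2, 3, 4, 5, 6, 0, 1, 2, 3, 4, 5, 6], 1, 6,
    [[[1,0,1,1,1,1,1],[0,0,-1,0,0,0,0],[-1,0,-1,-1,-1,0,0],[0,-1,0,-1,0,0,0],[0,-1,-1,-1,-1,-1,0],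
    [0,0,-1,-1,-1,0,0]]],
    [[[-1,2,2,1,4,1],[0,0,0,0,0,0],[0,0,0,0,0,0],[0,0,0,0,0,0],[0,0,0,0,0,0],[0,0,0,0,0,0],
    [0,0,0,0,0,0]]], 3⟩,
  ⟨10, [5, 3, 1, 1, 4, 1, 3, 6, 1, 0, 4, 1, 0, 4, 0, 5, 3, 5, 0, 2], 1, 4,
    [[[0,1,1,2,2,2,1],[0,0,0,0,0,-1,0],[0,1,1,1,1,1,0],[0,-1,-1,-2,-1,-1,0]]],
    [[[0,0,-1,1],[0,0,0,0],[0,0,0,0],[0,0,0,0],[0,0,0,0],[0,0,0,0],[0,0,0,0]]], 1⟩,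
  ⟨12, [3, 4, 3, 1, 1, 4, 0, 2, 6, 5, 0, 3, 0, 2, 4, 4, 4, 1, 2, 5, 4, 3, 3, 3, 1, 3, 2, 3, 5, 3, 3, 6, 1, 4, 4, 2, 5, 2, 3, 2], 1, 4,
    [[[1,1,1,2,1,1,0],[0,1,1,1,1,0,0],[-1,-1,-1,-1,0,0,0],[0,0,-1,-1,-1,0,0]]],
    [[[-1,-1,1,1],[0,0,0,0],[0,0,0,0],[0,0,0,0],[0,0,0,0],[0,0,0,0],[0,0,0,0]]], 1⟩,
  ⟨14, [3, 2, 1, 3, 2, 4, 3, 4, 0, 5, 4, 1, 2, 6, 0], 1, 6,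
    [[[2,2,2,3,3,2,1],[-1,-2,-1,-3,-3,-1,0],[0,1,1,2,2,1,0],[-1,-1,-1,-1,-1,-1,0],[2,2,2,3,3,1,0],
    [-1,-2,-2,-4,-3,-1,0]]],
    [[[-1,0,0,1,0,2],[0,0,0,0,0,0],[0,0,0,0,0,0],[0,0,0,0,0,0],[0,0,0,0,0,0],[0,0,0,0,0,0],
    [0,0,0,0,0,0]]], 1⟩,
  ⟨18, [0, 1, 2, 3, 4, 5, 6], 1, 6,
    [[[1,1,1,2,1,1,1],[0,0,1,1,1,0,0],[0,1,0,1,1,1,0],[0,-1,0,-1,0,0,0],[-1,0,-1,-1,-1,0,0],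
    [0,-1,-1,-1,-1,-1,0]]],
    [[[-2,-1,-2,1,2,4],[0,0,0,0,0,0],[0,0,0,0,0,0],[0,0,0,0,0,0],[0,0,0,0,0,0],[0,0,0,0,0,0],
    [0,0,0,0,0,0]]], 3⟩]

/-- A multiple of the inverse Cartan matrix. -/
def e7CartanAdj : List (List ℤ) := [[4,4,6,8,6,4,2],[4,7,8,12,9,6,3],[6,8,12,16,12,8,4],[8,12,16,24,18,12,6],[6,9,12,18,15,10,5],[4,6,8,12,10,8,4],[2,3,4,6,5,4,3]]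

theorem e7EigenCerts_chk :
    ∀ C ∈ e7EigenCerts, C.chk chevE7 Eigen.cycTable [2, 6, 8, 10, 12, 14, 18] = true := by
  decide +kernel

theorem e7EigenCerts_cover : ∀ e ∈ ([2, 6, 8, 10, 12, 14, 18] : List ℕ), ∀ d : Fin (e + 1), (d : ℕ) ∣ e →
    ∃ C ∈ e7EigenCerts, C.d = (d : ℕ) := by
  decide +kernel

theorem e7CartanAdj_spec : ∀ i l : Fin chevE7.rank, ∑ j : Fin chevE7.rank,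
    (e7CartanAdj.getD i []).getD j 0 * chevE7.cartan l (chevE7.simple j) =
      if i = l then ((2 : ℕ) : ℤ) else 0 := by
  decide +kernel

end Cfsg.Agent.Chev
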