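import Cfsg.Agent.Chev.EigenTorus
import Cfsg.Prelude.Def_ChevE8

/-!
Eigenvectors of Weyl elements of type E8.
-/

set_option autoImplicit false
set_option maxRecDepth 20000

namespace Cfsg.Agent.Chev

open Cfsg.Lie

/-- The certificates. -/
def e8EigenCerts : List Eigen.Cert := [
  ⟨1, [], 8, 1,
    [[[1,0,0,0,0,0,0,0]],[[0,1,0,0,0,0,0,0]],[[0,0,1,0,0,0,0,0]],[[0,0,0,1,0,0,0,0]],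
    [[0,0,0,0,1,0,0,0]],[[0,0,0,0,0,1,0,0]],[[0,0,0,0,0,0,1,0]],[[0,0,0,0,0,0,0,1]]],
    [[[4],[5],[7],[10],[8],[6],[4],[2]],[[5],[8],[10],[15],[12],[9],[6],[3]],[[7],[10],[14],[20],[16],
    [12],[8],[4]],[[10],[15],[20],[30],[24],[18],[12],[6]],[[8],[12],[16],[24],[20],[15],[10],
    [5]],[[6],[9],[12],[18],[15],[12],[8],[4]],[[4],[6],[8],[12],[10],[8],[6],[3]],[[2],[3],[4],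
    [6],[5],[4],[3],[2]]], 1⟩,
  ⟨2, [0, 1, 2, 3, 4, 5, 6, 7, 0, 1, 2, 3, 4, 5, 6, 7, 0, 1, 2, 3, 4, 5, 6, 7, 0, 1, 2, 3, 4, 5, 6, 7, 0, 1, 2, 3, 4, 5, 6, 7, 0, 1, 2, 3, 4, 5, 6, 7, 0, 1, 2, 3, 4, 5, 6, 7, 0, 1, 2, 3, 4, 5, 6, 7, 0, 1, 2, 3, 4, 5, 6, 7, 0, 1, 2, 3, 4, 5, 6, 7, 0, 1, 2, 3, 4, 5, 6, 7, 0, 1, 2, 3, 4, 5, 6, 7, 0, 1, 2, 3, 4, 5, 6, 7, 0, 1, 2, 3, 4, 5, 6, 7, 0, 1, 2, 3, 4, 5, 6, 7], 8, 1,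
    [[[1,0,0,0,0,0,0,0]],[[0,1,0,0,0,0,0,0]],[[0,0,1,0,0,0,0,0]],[[0,0,0,1,0,0,0,0]],
    [[0,0,0,0,1,0,0,0]],[[0,0,0,0,0,1,0,0]],[[0,0,0,0,0,0,1,0]],[[0,0,0,0,0,0,0,1]]],
    [[[4],[5],[7],[10],[8],[6],[4],[2]],[[5],[8],[10],[15],[12],[9],[6],[3]],[[7],[10],[14],[20],[16],
    [12],[8],[4]],[[10],[15],[20],[30],[24],[18],[12],[6]],[[8],[12],[16],[24],[20],[15],[10],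
    [5]],[[6],[9],[12],[18],[15],[12],[8],[4]],[[4],[6],[8],[12],[10],[8],[6],[3]],[[2],[3],[4],
    [6],[5],[4],[3],[2]]], 1⟩,
  ⟨3, [0, 1, 2, 3, 4, 5, 6, 7, 0, 1, 2, 3, 4, 5, 6, 7, 0, 1, 2, 3, 4, 5, 6, 7, 0, 1, 2, 3, 4, 5, 6, 7, 0, 1, 2, 3, 4, 5, 6, 7, 0, 1, 2, 3, 4, 5, 6, 7, 0, 1, 2, 3, 4, 5, 6, 7, 0, 1, 2, 3, 4, 5, 6, 7, 0, 1, 2, 3, 4, 5, 6, 7, 0, 1, 2, 3, 4, 5, 6, 7], 4, 2,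
    [[[0,0,0,0,1,0,0,0],[0,0,-1,-1,0,0,0,0]],[[0,0,1,1,0,1,0,0],[0,-1,1,0,0,0,0,0]],
    [[0,1,0,1,0,0,1,0],[-1,1,0,1,0,0,0,0]],[[1,0,0,0,0,0,0,1],[1,0,0,1,0,0,0,0]]],
    [[[3,5],[2,5],[1,5],[-1,5],[0,0],[0,0],[0,0],[0,0]],[[2,4],[1,4],[0,3],[-2,3],[0,0],[0,0],[0,0],
    [0,0]],[[1,3],[0,2],[0,2],[-2,1],[0,0],[0,0],[0,0],[0,0]],[[0,1],[0,1],[0,1],[-1,0],[0,0],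
    [0,0],[0,0],[0,0]]], 1⟩,
  ⟨4, [2, 0, 5, 4, 0, 0, 5, 6, 1, 3, 2, 5, 4, 3, 6, 2, 2, 7, 4, 6, 7, 5, 4, 5, 5, 0, 4, 6, 2, 0, 5, 4, 0, 0, 5, 6, 1, 3, 2, 5, 4, 3, 6, 2, 2, 7, 4, 6, 7, 5, 4, 5, 5, 0, 4, 6, 2, 0, 5, 4, 0, 0, 5, 6, 1, 3, 2, 5, 4, 3, 6, 2, 2, 7, 4, 6, 7, 5, 4, 5, 5, 0, 4, 6, 2, 0, 5, 4, 0, 0, 5, 6, 1, 3, 2, 5, 4, 3, 6, 2, 2, 7, 4, 6, 7, 5, 4, 5, 5, 0, 4, 6, 2, 0, 5, 4, 0, 0, 5, 6, 1, 3, 2, 5, 4, 3, 6, 2, 2, 7, 4, 6, 7, 5, 4, 5, 5, 0, 4, 6, 2, 0, 5, 4, 0, 0, 5, 6, 1, 3, 2, 5, 4, 3, 6, 2, 2, 7, 4, 6, 7, 5, 4, 5, 5, 0, 4, 6], 4, 2,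
    [[[1,2,2,3,2,0,0,0],[1,0,2,1,0,0,0,0]],[[0,-1,-1,-1,0,1,0,0],[0,1,-1,0,0,0,0,0]],
    [[0,1,1,1,0,0,1,0],[-1,-1,0,0,0,0,0,0]],[[-1,-2,0,-1,0,0,0,2],[1,-2,-2,-3,0,0,0,0]]],
    [[[1,-5],[4,0],[2,0],[3,-5],[0,0],[0,0],[0,0],[0,0]],[[2,-6],[8,0],[4,4],[6,-6],[0,0],[0,0],[0,0],
    [0,0]],[[2,-2],[4,4],[0,4],[2,-2],[0,0],[0,0],[0,0],[0,0]],[[1,-1],[2,2],[0,2],[1,1],[0,0],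
    [0,0],[0,0],[0,0]]], 4⟩,
  ⟨5, [0, 1, 2, 3, 4, 5, 6, 7, 0, 1, 2, 3, 4, 5, 6, 7, 0, 1, 2, 3, 4, 5, 6, 7, 0, 1, 2, 3, 4, 5, 6, 7, 0, 1, 2, 3, 4, 5, 6, 7, 0, 1, 2, 3, 4, 5, 6, 7], 2, 4,
    [[[0,0,0,0,0,0,1,0],[0,-1,-1,-1,-1,-1,0,0],[0,-1,-1,-2,-1,-1,0,0],[0,-1,0,-1,-1,-1,0,0]],
    [[0,1,1,1,1,1,0,1],[-1,1,1,1,1,1,0,0],[-1,1,0,1,0,1,0,0],[-1,1,-1,0,0,0,0,0]]],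
    [[[1,1,1,2],[1,3,2,1],[0,0,0,0],[0,0,0,0],[0,0,0,0],[0,0,0,0],[0,0,0,0],[0,0,0,0]],[[0,1,0,1],
    [0,1,1,0],[0,0,0,0],[0,0,0,0],[0,0,0,0],[0,0,0,0],[0,0,0,0],[0,0,0,0]]], 1⟩,
  ⟨6, [0, 1, 2, 3, 4, 5, 6, 7, 0, 1, 2, 3, 4, 5, 6, 7, 0, 1, 2, 3, 4, 5, 6, 7, 0, 1, 2, 3, 4, 5, 6, 7, 0, 1, 2, 3, 4, 5, 6, 7], 4, 2,
    [[[0,0,1,1,1,0,0,0],[0,0,-1,-1,0,0,0,0]],[[0,1,0,1,0,1,0,0],[0,-1,1,0,0,0,0,0]],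
    [[1,0,0,0,0,0,1,0],[-1,1,0,1,0,0,0,0]],[[0,0,0,-1,0,0,0,1],[1,0,0,1,0,0,0,0]]],
    [[[-2,5],[-3,5],[-4,5],[-6,5],[0,0],[0,0],[0,0],[0,0]],[[-2,4],[-3,4],[-3,3],[-5,3],[0,0],[0,0],
    [0,0],[0,0]],[[-2,3],[-2,2],[-2,2],[-3,1],[0,0],[0,0],[0,0],[0,0]],[[-1,1],[-1,1],[-1,1],
    [-1,0],[0,0],[0,0],[0,0],[0,0]]], 1⟩,
  ⟨7, [5, 5, 4, 5, 6, 5, 2, 7, 5, 5, 2, 2, 3, 5, 7, 4, 1, 6, 2, 6, 4, 4, 0, 3, 2, 7, 2, 3, 2, 0, 7, 3, 2, 0], 1, 6,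
    [[[0,0,0,0,0,0,1,0],[0,0,0,0,-1,-1,0,0],[-1,-1,-2,-2,-2,-1,0,0],[-1,-1,-1,-2,-2,-1,0,0],
    [-1,-1,-1,-1,-1,-1,0,0],[-1,0,-1,-1,-1,-1,0,0]]],
    [[[0,1,0,0,0,1],[0,0,0,0,0,0],[0,0,0,0,0,0],[0,0,0,0,0,0],[0,0,0,0,0,0],[0,0,0,0,0,0],
    [0,0,0,0,0,0],[0,0,0,0,0,0]]], 1⟩,
  ⟨8, [2, 0, 5, 4, 0, 0, 5, 6, 1, 3, 2, 5, 4, 3, 6, 2, 2, 7, 4, 6, 7, 5, 4, 5, 5, 0, 4, 6, 2, 0, 5, 4, 0, 0, 5, 6, 1, 3, 2, 5, 4, 3, 6, 2, 2, 7, 4, 6, 7, 5, 4, 5, 5, 0, 4, 6, 2, 0, 5, 4, 0, 0, 5, 6, 1, 3, 2, 5, 4, 3, 6, 2, 2, 7, 4, 6, 7, 5, 4, 5, 5, 0, 4, 6], 2, 4,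
    [[[2,2,4,5,4,3,2,0],[2,2,2,3,2,1,0,0],[0,0,0,1,0,1,0,0],[0,0,0,-1,-2,-1,0,0]],
    [[-1,-1,-2,-2,-1,0,0,1],[-1,-1,0,-1,-1,-1,0,0],[0,0,-1,-1,0,-1,0,0],[0,-1,0,0,1,1,0,0]]],
    [[[2,-1,0,-1],[0,2,1,-1],[0,0,0,0],[0,0,0,0],[0,0,0,0],[0,0,0,0],[0,0,0,0],[0,0,0,0]],[[2,0,0,0],
    [0,2,2,0],[0,0,0,0],[0,0,0,0],[0,0,0,0],[0,0,0,0],[0,0,0,0],[0,0,0,0]]], 2⟩,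
  ⟨9, [6, 5, 6, 0, 7, 0, 2, 3, 1, 3, 7, 5, 5, 4, 7, 1, 5, 4, 0, 6, 1, 3, 5, 5, 2, 5, 4, 1, 4, 5, 4, 2, 1, 2, 4, 7, 2], 1, 6,
    [[[0,0,0,0,1,1,1,1],[0,-1,0,0,0,0,0,0],[0,0,0,0,-1,-1,0,0],[0,0,-1,-1,0,0,0,0],
    [-1,-1,-1,-1,0,0,0,0],[0,-1,0,-1,-1,-1,0,0]]],
    [[[-1,-1,-1,-2,-2,-2],[0,0,0,0,0,0],[0,0,0,0,0,0],[0,0,0,0,0,0],[0,0,0,0,0,0],[0,0,0,0,0,0],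
    [0,0,0,0,0,0],[0,0,0,0,0,0]]], 3⟩,
  ⟨10, [0, 1, 2, 3, 4, 5, 6, 7, 0, 1, 2, 3, 4, 5, 6, 7, 0, 1, 2, 3, 4, 5, 6, 7], 2, 4,
    [[[0,1,1,2,1,1,1,0],[0,0,-1,-1,0,0,0,0],[0,0,0,1,0,0,0,0],[0,-1,-1,-2,-1,-1,0,0]],
    [[1,0,1,0,1,0,0,1],[0,0,1,1,0,1,0,0],[0,0,1,0,1,0,0,0],[-1,1,0,1,0,1,0,0]]],
    [[[0,-1,0,1],[-1,1,1,2],[0,0,0,0],[0,0,0,0],[0,0,0,0],[0,0,0,0],[0,0,0,0],[0,0,0,0]],[[0,-1,1,0],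
    [-1,1,0,1],[0,0,0,0],[0,0,0,0],[0,0,0,0],[0,0,0,0],[0,0,0,0],[0,0,0,0]]], 1⟩,
  ⟨12, [2, 0, 5, 4, 0, 0, 5, 6, 1, 3, 2, 5, 4, 3, 6, 2, 2, 7, 4, 6, 7, 5, 4, 5, 5, 0, 4, 6, 2, 0, 5, 4, 0, 0, 5, 6, 1, 3, 2, 5, 4, 3, 6, 2, 2, 7, 4, 6, 7, 5, 4, 5, 5, 0, 4, 6], 2, 4,
    [[[0,1,0,1,1,1,1,0],[0,1,0,1,1,0,0,0],[1,1,2,2,1,0,0,0],[0,0,1,1,0,0,0,0]],[[0,-1,1,0,0,0,0,1],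
    [1,-1,1,0,0,1,0,0],[-1,-1,-3,-3,-2,0,0,0],[-1,-1,-3,-3,-1,-1,0,0]]],
    [[[3,1,-3,-2],[1,2,0,1],[0,0,0,0],[0,0,0,0],[0,0,0,0],[0,0,0,0],[0,0,0,0],[0,0,0,0]],[[1,1,-1,-2],
    [1,0,0,1],[0,0,0,0],[0,0,0,0],[0,0,0,0],[0,0,0,0],[0,0,0,0],[0,0,0,0]]], 2⟩,
  ⟨14, [1, 5, 2, 0, 1, 0, 5, 1, 1, 7, 0, 3, 7, 0, 3, 6, 5, 1, 0, 1, 3, 7, 5, 4, 3, 5, 7, 3, 3, 3, 2, 3, 1, 6, 7, 0, 4], 1, 6,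
    [[[2,1,3,3,3,2,2,1],[-1,1,-1,0,0,-1,-1,0],[0,0,0,0,0,1,1,0],[-1,-1,-2,-2,-2,-1,-1,0],
    [2,0,2,1,1,1,1,0],[-1,0,-1,-1,0,-1,-1,0]]],
    [[[1,-1,1,-2,0,-1],[0,0,0,0,0,0],[0,0,0,0,0,0],[0,0,0,0,0,0],[0,0,0,0,0,0],[0,0,0,0,0,0],
    [0,0,0,0,0,0],[0,0,0,0,0,0]]], 2⟩,
  ⟨15, [0, 1, 2, 3, 4, 5, 6, 7, 0, 1, 2, 3, 4, 5, 6, 7], 1, 8,
    [[[1,1,2,3,2,2,1,1],[0,0,-1,-1,0,0,0,0],[-1,0,-1,-1,-1,-1,0,0],[0,0,1,1,1,1,0,0],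
    [0,-1,-1,-2,-1,-1,0,0],[0,0,0,1,0,0,0,0],[0,0,0,0,0,1,0,0],[-1,-1,-2,-3,-2,-2,-1,0]]],
    [[[-1,1,1,0,1,0,0,2],[0,0,0,0,0,0,0,0],[0,0,0,0,0,0,0,0],[0,0,0,0,0,0,0,0],[0,0,0,0,0,0,0,0],
    [0,0,0,0,0,0,0,0],[0,0,0,0,0,0,0,0],[0,0,0,0,0,0,0,0]]], 1⟩,
  ⟨18, [7, 3, 0, 7, 3, 1, 5, 3, 1, 5, 1, 2, 3, 6, 0, 0, 6, 0, 4, 3, 6, 6, 2, 1, 6, 3, 3, 2, 6, 7, 2, 6, 0, 4, 7, 3, 4, 1, 3, 6, 6, 7, 3, 3, 5, 4], 1, 6,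
    [[[0,3,2,4,4,3,3,3],[3,3,4,5,5,3,3,0],[3,3,5,7,4,3,0,0],[0,-3,-1,-2,-2,0,0,0],
    [-3,0,-2,-1,-1,0,0,0],[0,0,-1,-2,1,0,0,0]]],
    [[[0,0,1,1,1,1],[0,0,0,0,0,0],[0,0,0,0,0,0],[0,0,0,0,0,0],[0,0,0,0,0,0],[0,0,0,0,0,0],
    [0,0,0,0,0,0],[0,0,0,0,0,0]]], 3⟩,
  ⟨20, [7, 7, 4, 3, 1, 7, 4, 0, 6, 1, 4, 5, 4, 7, 2, 0, 1, 7, 0, 6, 5, 0, 6, 3, 2, 0], 1, 8,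
    [[[0,0,1,1,1,1,1,1],[0,1,0,1,1,1,1,0],[1,1,1,1,1,0,0,0],[1,0,1,1,1,1,0,0],[0,0,1,1,0,0,0,0],
    [-1,0,-1,-1,-1,0,0,0],[0,0,-1,-1,-1,-1,0,0],[0,-1,0,-1,0,0,0,0]]],
    [[[-1,-2,-3,-1,-3,-1,-1,-2],[0,0,0,0,0,0,0,0],[0,0,0,0,0,0,0,0],[0,0,0,0,0,0,0,0],
    [0,0,0,0,0,0,0,0],[0,0,0,0,0,0,0,0],[0,0,0,0,0,0,0,0],[0,0,0,0,0,0,0,0]]], 5⟩,
  ⟨24, [2, 0, 5, 4, 0, 0, 5, 6, 1, 3, 2, 5, 4, 3, 6, 2, 2, 7, 4, 6, 7, 5, 4, 5, 5, 0, 4, 6], 1, 8,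
    [[[1,1,2,2,2,2,2,1],[0,1,1,2,1,1,1,0],[0,0,0,1,1,1,0,0],[0,0,0,0,0,-1,-1,0],
    [0,0,-1,-1,-1,-1,-1,0],[1,0,1,0,0,0,0,0],[0,0,0,0,0,0,1,0],[-1,-1,-1,-1,-1,0,0,0]]],
    [[[1,0,1,-1,-2,0,-2,-1],[0,0,0,0,0,0,0,0],[0,0,0,0,0,0,0,0],[0,0,0,0,0,0,0,0],[0,0,0,0,0,0,0,0],
    [0,0,0,0,0,0,0,0],[0,0,0,0,0,0,0,0],[0,0,0,0,0,0,0,0]]], 3⟩,
  ⟨30, [0, 1, 2, 3, 4, 5, 6, 7], 1, 8,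
    [[[0,1,1,1,1,1,0,1],[0,1,1,2,1,1,0,0],[1,1,1,2,2,1,1,0],[1,0,1,1,1,1,1,0],[0,0,0,0,0,0,1,0],
    [0,-1,-1,-1,-1,-1,0,0],[-1,-1,-1,-2,-1,-1,-1,0],[-1,0,-1,-1,-1,0,-1,0]]],
    [[[0,-1,-1,-1,0,1,2,1],[0,0,0,0,0,0,0,0],[0,0,0,0,0,0,0,0],[0,0,0,0,0,0,0,0],[0,0,0,0,0,0,0,0],
    [0,0,0,0,0,0,0,0],[0,0,0,0,0,0,0,0],[0,0,0,0,0,0,0,0]]], 1⟩]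

/-- A multiple of the inverse Cartan matrix. -/
def e8CartanAdj : List (List ℤ) := [[4,5,7,10,8,6,4,2],[5,8,10,15,12,9,6,3],[7,10,14,20,16,12,8,4],[10,15,20,30,24,18,12,6],[8,12,16,24,20,15,10,5],[6,9,12,18,15,12,8,4],[4,6,8,12,10,8,6,3],[2,3,4,6,5,4,3,2]]

theorem e8EigenCerts_chk :
    ∀ C ∈ e8EigenCerts, C.chk chevE8 Eigen.cycTable [2, 8, 12, 14, 18, 20, 24, 30] = true := by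
  decide +kernel

theorem e8EigenCerts_cover : ∀ e ∈ ([2, 8, 12, 14, 18, 20, 24, 30] : List ℕ), ∀ d : Fin (e + 1), (d : ℕ) ∣ e →
    ∃ C ∈ e8EigenCerts, C.d = (d : ℕ) := by
  decide +kernel

theorem e8CartanAdj_spec : ∀ i l : Fin chevE8.rank, ∑ j : Fin chevE8.rank,
    (e8CartanAdj.getD i []).getD j 0 * chevE8.cartan l (chevE8.simple j) =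
      if i = l then ((1 : ℕ) : ℤ) else 0 := by
  decide +kernel

end Cfsg.Agent.Chev
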