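import Cfsg.Agent.Chev.EigenTorus
import Cfsg.Prelude.Def_ChevF4

/-!
Eigenvectors of Weyl elements of type F4.
-/

set_option autoImplicit false
set_option maxRecDepth 20000

namespace Cfsg.Agent.Chev

open Cfsg.Lie

/-- The certificates. -/
def f4EigenCerts : List Eigen.Cert := [
  ⟨1, [], 4, 1,
    [[[1,0,0,0]],[[0,1,0,0]],[[0,0,1,0]],[[0,0,0,1]]],
    [[[2],[3],[2],[1]],[[3],[6],[4],[2]],[[4],[8],[6],[3]],[[2],[4],[3],[2]]], 1⟩,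
  ⟨2, [0, 1, 2, 3, 0, 1, 2, 3, 0, 1, 2, 3, 0, 1, 2, 3, 0, 1, 2, 3, 0, 1, 2, 3], 4, 1,
    [[[1,0,0,0]],[[0,1,0,0]],[[0,0,1,0]],[[0,0,0,1]]],
    [[[2],[3],[2],[1]],[[3],[6],[4],[2]],[[4],[8],[6],[3]],[[2],[4],[3],[2]]], 1⟩,
  ⟨3, [0, 1, 2, 3, 0, 1, 2, 3, 0, 1, 2, 3, 0, 1, 2, 3], 2, 2,
    [[[0,1,2,0],[-1,0,0,0]],[[1,0,0,2],[1,-1,0,0]]],
    [[[1,3],[2,3],[0,0],[0,0]],[[0,1],[1,2],[0,0],[0,0]]], 2⟩,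
  ⟨4, [0, 1, 2, 3, 0, 1, 2, 3, 0, 1, 2, 3], 2, 2,
    [[[0,1,2,0],[0,-1,0,0]],[[1,1,0,2],[-1,1,0,0]]],
    [[[1,3],[-1,3],[0,0],[0,0]],[[0,2],[-1,1],[0,0],[0,0]]], 2⟩,
  ⟨6, [0, 1, 2, 3, 0, 1, 2, 3], 2, 2,
    [[[1,1,2,0],[-1,0,0,0]],[[0,1,0,2],[1,-1,0,0]]],
    [[[-2,3],[-1,3],[0,0],[0,0]],[[-1,1],[-1,2],[0,0],[0,0]]], 2⟩,
  ⟨8, [0, 3, 2, 1, 3, 0, 1, 3, 2, 1, 2, 2, 3, 3], 1, 4,
    [[[1,2,2,2],[0,1,2,0],[1,0,0,0],[0,1,0,0]]],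
    [[[0,-1,-2,-1],[0,0,0,0],[0,0,0,0],[0,0,0,0]]], 2⟩,
  ⟨12, [0, 1, 2, 3], 1, 4,
    [[[1,2,2,2],[0,1,2,0],[0,-1,0,0],[-1,-1,-2,0]]],
    [[[-1,-1,1,2],[0,0,0,0],[0,0,0,0],[0,0,0,0]]], 2⟩]

/-- A multiple of the inverse Cartan matrix. -/
def f4CartanAdj : List (List ℤ) := [[2,3,2,1],[3,6,4,2],[4,8,6,3],[2,4,3,2]]

theorem f4EigenCerts_chk :
    ∀ C ∈ f4EigenCerts, C.chk chevF4 Eigen.cycTable [2, 6, 8, 12] = true := by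
  decide +kernel

theorem f4EigenCerts_cover : ∀ e ∈ ([2, 6, 8, 12] : List ℕ), ∀ d : Fin (e + 1), (d : ℕ) ∣ e →
    ∃ C ∈ f4EigenCerts, C.d = (d : ℕ) := by
  decide +kernel

theorem f4CartanAdj_spec : ∀ i l : Fin chevF4.rank, ∑ j : Fin chevF4.rank,
    (f4CartanAdj.getD i []).getD j 0 * chevF4.cartan l (chevF4.simple j) =
      if i = l then ((1 : ℕ) : ℤ) else 0 := by
  decide +kernel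

end Cfsg.Agent.Chev
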